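import Groth.Agent.Lib.TrivDef.Basic
import Mathlib.RingTheory.Kaehler.Basic
import Mathlib.RingTheory.Smooth.Basic
import Mathlib.RingTheory.Smooth.Kaehler
import Mathlib.RingTheory.AdjoinRoot
import Mathlib.Algebra.Polynomial.Derivation
import Mathlib.LinearAlgebra.TensorProduct.RightExactness
import Mathlib.RingTheory.LocalRing.Quotient

/-!
# Flat deformations of smooth algebras over truncated polynomial rings
-/

set_option autoImplicit false

universe u

open scoped Polynomial TensorProduct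
open Polynomial (X)

namespace Groth.Agent.TruncPoly3

variable {k : Type u} [Field k] {n : ℕ} {D : Type u} [CommRing D] [Algebra k D]

theorem surj_aeval {τ : D} (e : (k[X] ⧸ Ideal.span {(X : k[X]) ^ (n + 1)}) ≃ₐ[k] D)
    (he : e (Ideal.Quotient.mk (Ideal.span {(X : k[X]) ^ (n + 1)}) X) = τ) (p : k[X]) :
    e (Ideal.Quotient.mk _ p) = Polynomial.aeval τ p := by
  have : (e.toAlgHom.comp (Ideal.Quotient.mkₐ k _)) = Polynomial.aeval τ :=
    Polynomial.algHom_ext (by simpa using he)
  exact AlgHom.congr_fun this p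

variable (τ : D) (e : (k[X] ⧸ Ideal.span {(X : k[X]) ^ (n + 1)}) ≃ₐ[k] D)
  (he : e (Ideal.Quotient.mk (Ideal.span {(X : k[X]) ^ (n + 1)}) X) = τ)

include e he in
theorem aeval_surjective : Function.Surjective (Polynomial.aeval (R := k) τ) := fun d => by
  obtain ⟨q, rfl⟩ := e.surjective d
  obtain ⟨p, rfl⟩ := Ideal.Quotient.mk_surjective q
  exact ⟨p, (surj_aeval e he p).symm⟩

include e he in
theorem pow_succ_eq_zero : τ ^ (n + 1) = 0 := by
  rw [← he, ← map_pow, ← map_pow, Ideal.Quotient.eq_zero_iff_mem.2 (Ideal.mem_span_singleton_self _), map_zero]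

include e he in
theorem exists_aug : ∃ ε : D →ₐ[k] k, RingHom.ker ε = Ideal.span {τ} := by
  let ev : (k[X] ⧸ Ideal.span {(X : k[X]) ^ (n + 1)}) →ₐ[k] k :=
    Ideal.Quotient.liftₐ _ (Polynomial.aeval (0 : k)) fun p hp => by
      obtain ⟨q, rfl⟩ := Ideal.mem_span_singleton'.1 hp
      simp
  refine ⟨ev.comp e.symm.toAlgHom, le_antisymm (fun d hd => ?_) ((Ideal.span_singleton_le_iff_mem _).2 ?_)⟩
  · obtain ⟨p, rfl⟩ := aeval_surjective τ e he d
    rw [RingHom.mem_ker, ← surj_aeval e he] at hd
    have h0 : p.coeff 0 = 0 := by simpa [ev, Polynomial.coeff_zero_eq_aeval_zero] using hd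
    obtain ⟨q, hq⟩ := Polynomial.X_dvd_iff.2 h0
    rw [hq, map_mul, Polynomial.aeval_X]
    exact Ideal.mem_span_singleton'.2 ⟨_, mul_comm _ _⟩
  · rw [RingHom.mem_ker, ← he]
    simp [ev]

include e he in
theorem isLocalRing : IsLocalRing D := by
  obtain ⟨ε, hε⟩ := exists_aug τ e he
  haveI : Nontrivial D := ε.toRingHom.domain_nontrivial
  refine IsLocalRing.of_unique_max_ideal ⟨RingHom.ker ε, RingHom.ker_isMaximal_of_surjective _
    (fun c => ⟨algebraMap k D c, by simp⟩), fun P hP => ?_⟩
  refine ((RingHom.ker_isMaximal_of_surjective _ (fun c => ⟨algebraMap k D c, by simp⟩)).eq_of_le hP.ne_top ?_).symm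
  rw [hε, Ideal.span_singleton_le_iff_mem]
  exact hP.isPrime.mem_of_pow_mem _ (by rw [pow_succ_eq_zero τ e he]; exact P.zero_mem)

include e in
theorem isArtinianRing : IsArtinianRing D := by
  haveI : Module.Finite k (k[X] ⧸ Ideal.span {(X : k[X]) ^ (n + 1)}) :=
    (Polynomial.monic_X_pow (n + 1)).finite_adjoinRoot
  haveI : Module.Finite k D := Module.Finite.equiv e.toLinearEquiv
  exact IsArtinianRing.of_finite k D

variable (B : Type u) [CommRing B] [Algebra k B] [Algebra D B] [IsScalarTower k D B] (t : B)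

include e he in
theorem pow_succ_eq_zero' (ht : t = algebraMap D B τ) : t ^ (n + 1) = 0 := by
  rw [ht, ← map_pow, pow_succ_eq_zero τ e he, map_zero]

include e he in
/-- The kernel of `Ω[B⁄k] → Ω[B⁄D]` is spanned by `dt`. -/
theorem ker_map_le (ht : t = algebraMap D B τ) :
    LinearMap.ker (KaehlerDifferential.map k D B B) ≤ Submodule.span B {KaehlerDifferential.D k B t} := by
  intro z hz
  obtain ⟨y, rfl⟩ := (KaehlerDifferential.exact_mapBaseChange_map k D B z).1 hz
  clear hz
  induction y using TensorProduct.induction_on with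
  | zero => simp
  | add a b ha hb => rw [map_add]; exact add_mem ha hb
  | tmul b ω =>
    rw [KaehlerDifferential.mapBaseChange_tmul]
    refine Submodule.smul_mem _ _ ?_
    have hω : ω ∈ Submodule.span D (Set.range (KaehlerDifferential.D k D)) := by
      rw [KaehlerDifferential.span_range_derivation]; trivial
    induction hω using Submodule.span_induction with
    | zero => simp
    | add a b _ _ ha hb => rw [map_add]; exact add_mem ha hb
    | smul d a _ ha =>
      rw [map_smul, ← algebraMap_smul B d]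
      exact Submodule.smul_mem _ _ ha
    | mem x hx =>
      obtain ⟨d, rfl⟩ := hx
      obtain ⟨p, rfl⟩ := aeval_surjective τ e he d
      rw [KaehlerDifferential.map_D, ← Polynomial.aeval_algebraMap_apply, ← ht, Derivation.map_aeval]
      exact Submodule.smul_mem _ _ (Submodule.mem_span_singleton_self _)

include e he in
/-- `t ^ n • dt = 0` in characteristic zero. -/
theorem pow_smul_D_eq_zero [CharZero k] (ht : t = algebraMap D B τ) :
    t ^ n • KaehlerDifferential.D k B t = 0 := by
  have h := congrArg (KaehlerDifferential.D k B) (pow_succ_eq_zero' τ e he B t ht)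
  rw [map_zero, Derivation.leibniz_pow, Nat.add_sub_cancel, ← Nat.cast_smul_eq_nsmul k] at h
  exact ((isUnit_iff_ne_zero.2 (Nat.cast_ne_zero.2 n.succ_ne_zero)).smul_eq_zero).1 h

include e he in
theorem exists_setup [Module.Flat D B] (ht : t = algebraMap D B τ)
    (hsm : Algebra.Smooth k (B ⧸ Ideal.span {t})) :
    Algebra.FormallySmooth D B ∧
      ∃ L : (Ω[B⁄k]) →ₗ[B] B ⧸ Ideal.span {t ^ n}, L (KaehlerDifferential.D k B t) = 1 := by
  haveI := isLocalRing τ e he
  haveI := isArtinianRing (k := k) (n := n) (D := D) e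
  obtain ⟨ε, hε⟩ := exists_aug τ e he
  let ρ : B →ₐ[k] B ⧸ Ideal.span {t} := Ideal.Quotient.mkₐ k _
  obtain ⟨θ, hθ⟩ := TrivDef.exists_trivialization ε ρ (Ideal.Quotient.mkₐ_surjective k _) (by
    rw [hε, Ideal.map_span, Set.image_singleton, ← ht]
    exact Ideal.mk_ker)
  refine ⟨Algebra.FormallySmooth.of_equiv θ, ?_⟩
  let π := Ideal.Quotient.mkₐ k (Ideal.span {t ^ n})
  let s : (B ⧸ Ideal.span {t}) →ₐ[k] B ⧸ Ideal.span {t ^ n} :=
    π.comp ((θ.restrictScalars k).toAlgHom.comp Algebra.TensorProduct.includeRight)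
  -- the derivative `D → B / (t ^ n)`
  have hker : ∀ p ∈ Ideal.span {(X : k[X]) ^ (n + 1)},
      π (Polynomial.aeval t (Polynomial.derivative p)) = 0 := by
    intro p hp
    obtain ⟨q, rfl⟩ := Ideal.mem_span_singleton'.1 hp
    refine Ideal.Quotient.eq_zero_iff_mem.2 ?_
    rw [Polynomial.derivative_mul, map_add, map_mul, map_mul, Polynomial.derivative_X_pow, Nat.add_sub_cancel,
      map_mul (Polynomial.aeval t) (Polynomial.C _), map_pow, map_pow, Polynomial.aeval_X, pow_succ']
    exact add_mem (Ideal.mul_mem_left _ _ (Ideal.mul_mem_left _ _ (Ideal.mem_span_singleton_self _)))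
      (Ideal.mul_mem_left _ _ (Ideal.mul_mem_left _ _ (Ideal.mem_span_singleton_self _)))
  let δ0 : (k[X] ⧸ Ideal.span {(X : k[X]) ^ (n + 1)}) →ₗ[k] B ⧸ Ideal.span {t ^ n} :=
    Submodule.liftQ ((Ideal.span {(X : k[X]) ^ (n + 1)}).restrictScalars k)
      (π.toLinearMap ∘ₗ (Polynomial.aeval t).toLinearMap ∘ₗ Polynomial.derivative) hker ∘ₗ
      (Submodule.Quotient.restrictScalarsEquiv k (Ideal.span {(X : k[X]) ^ (n + 1)})).symm.toLinearMap
  let δ : D →ₗ[k] B ⧸ Ideal.span {t ^ n} := δ0 ∘ₗ e.symm.toLinearEquiv.toLinearMap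
  let ι : D →ₐ[k] B ⧸ Ideal.span {t ^ n} := π.comp (IsScalarTower.toAlgHom k D B)
  have hδ : ∀ p : k[X], δ (Polynomial.aeval τ p) = π (Polynomial.aeval t (Polynomial.derivative p)) := fun p => by
    show δ0 (e.symm (Polynomial.aeval τ p)) = _
    rw [← surj_aeval e he, AlgEquiv.symm_apply_apply]
    rfl
  have hι : ∀ p : k[X], ι (Polynomial.aeval τ p) = π (Polynomial.aeval t p) := fun p => by
    show π (algebraMap D B (Polynomial.aeval τ p)) = _
    refine congrArg π ?_
    rw [← Polynomial.aeval_algebraMap_apply, ← ht]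
  have hleib : ∀ a b, δ (a * b) = ι a * δ b + ι b * δ a := by
    intro a b
    obtain ⟨p, rfl⟩ := aeval_surjective τ e he a
    obtain ⟨q, rfl⟩ := aeval_surjective τ e he b
    rw [← map_mul, hδ, hδ, hδ, hι, hι, Polynomial.derivative_mul, map_add, map_add, map_mul, map_mul, map_mul, map_mul]
    ring
  let L0 : D ⊗[k] (B ⧸ Ideal.span {t}) →ₗ[k] B ⧸ Ideal.span {t ^ n} :=
    LinearMap.mul' k _ ∘ₗ TensorProduct.map δ s.toLinearMap
  let L1 : B →ₗ[k] B ⧸ Ideal.span {t ^ n} := L0 ∘ₗ (θ.symm.restrictScalars k).toLinearEquiv.toLinearMap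
  have hπθ : ∀ a b, π (θ (a ⊗ₜ b)) = ι a * s b := fun a b => by
    rw [show a ⊗ₜ[k] b = a • ((1 : D) ⊗ₜ[k] b) by rw [TensorProduct.smul_tmul', smul_eq_mul, mul_one],
      map_smul, Algebra.smul_def, map_mul]
    rfl
  have hL0 : ∀ x y, L0 (x * y) = π (θ x) * L0 y + π (θ y) * L0 x := by
    intro x y
    induction x using TensorProduct.induction_on with
    | zero => simp
    | add a b ha hb => simp only [add_mul, map_add, ha, hb]; ring
    | tmul a b =>
      induction y using TensorProduct.induction_on with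
      | zero => simp
      | add c d hc hd => simp only [mul_add, map_add, hc, hd]; ring
      | tmul a' b' =>
        rw [Algebra.TensorProduct.tmul_mul_tmul, hπθ, hπθ]
        simp only [L0, LinearMap.comp_apply, TensorProduct.map_tmul, LinearMap.mul'_apply, AlgHom.toLinearMap_apply,
          map_mul, hleib]
        ring
  let d : Derivation k B (B ⧸ Ideal.span {t ^ n}) := Derivation.mk' L1 fun x y => by
    show L0 (θ.symm (x * y)) = x • L0 (θ.symm y) + y • L0 (θ.symm x)
    rw [map_mul, hL0, AlgEquiv.apply_symm_apply, AlgEquiv.apply_symm_apply, Algebra.smul_def, Algebra.smul_def]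
    rfl
  refine ⟨d.liftKaehlerDifferential, ?_⟩
  rw [Derivation.liftKaehlerDifferential_comp_D]
  show L0 (θ.symm t) = 1
  rw [(congrArg θ.symm ht).trans (θ.symm.commutes τ), Algebra.TensorProduct.algebraMap_apply]
  show δ τ * s 1 = 1
  have h1 := hδ X
  simp only [Polynomial.aeval_X, Polynomial.derivative_X, map_one] at h1
  rw [h1, map_one, mul_one]

end Groth.Agent.TruncPoly3
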